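import Cfsg.Agent.ThreeTrans.Basic

/-!
# Fischer's classification: recognising the image of a class of 3-transpositions
-/

set_option autoImplicit false

open Cfsg

namespace Cfsg.Agent.FischerThm

open Cfsg.Agent.ThreeTrans

variable {G K L : Type*} [Group G] [Group K] [Group L]

/-- Two classes that are carried to a common member are carried to the same set. -/
theorem class_image_eq {D : Set G} {E : Set K} (hD : IsThreeTranspositionClass D)
    (hE : IsThreeTranspositionClass E) (e : G ≃* L) {f : K →* L} (hf : Function.Surjective f)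
    {d : G} (hd : d ∈ D) {g : K} (hg : g ∈ E) (h : e d = f g) : e '' D = f '' E := by
  ext z
  constructor
  · rintro ⟨x, hx, rfl⟩
    obtain ⟨k, rfl⟩ := class_isConj hD hd hx
    obtain ⟨u, hu⟩ := hf (e k)
    exact ⟨u * g * u⁻¹, class_conj hE u g hg, by simp [map_mul, h, hu]⟩
  · rintro ⟨x, hx, rfl⟩
    obtain ⟨k, rfl⟩ := class_isConj hE hg hx
    exact ⟨e.symm (f k) * d * (e.symm (f k))⁻¹, class_conj hD _ d hd, by simp [map_mul, h]⟩

/-- A generating class of 3-transpositions in the symmetric group of degree five or eight consists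
of the transpositions. -/
theorem perm_class_eq {n : ℕ} (hn : n = 5 ∨ n = 8) {D : Set G} (hD : IsThreeTranspositionClass D)
    (e : G ≃* Equiv.Perm (Fin n)) : e '' D = {σ : Equiv.Perm (Fin n) | σ.IsSwap} := by
  classical
  have htop : Subgroup.closure (e '' D) = ⊤ := by
    rw [show (e '' D) = (e.toMonoidHom : G →* Equiv.Perm (Fin n)) '' D from rfl,
      ← MonoidHom.map_closure, hD.2.2, Subgroup.map_top_of_surjective _ e.surjective]
  obtain ⟨d, hd, hodd⟩ : ∃ d ∈ D, Equiv.Perm.sign (e d) ≠ 1 := by
    by_contra hc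
    push Not at hc
    have hle : (⊤ : Subgroup (Equiv.Perm (Fin n))) ≤ alternatingGroup (Fin n) := by
      rw [← htop, Subgroup.closure_le]
      rintro _ ⟨x, hx, rfl⟩
      exact Equiv.Perm.mem_alternatingGroup.2 (hc x hx)
    have h2 : 2 ≤ n := by omega
    have hs : Equiv.swap (⟨0, by omega⟩ : Fin n) ⟨1, by omega⟩ ∈ alternatingGroup (Fin n) :=
      hle (Subgroup.mem_top _)
    rw [Equiv.Perm.mem_alternatingGroup, Equiv.Perm.sign_swap (by simp [Fin.ext_iff])] at hs
    exact absurd hs (by decide)
  have hord : orderOf (e d) = 2 := (MulEquiv.orderOf_eq e d).trans (hD.1.1 d hd)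
  obtain ⟨k, hk⟩ := Equiv.Perm.cycleType_prime_order (σ := e d) (by rw [hord]; exact Nat.prime_two)
  rw [hord] at hk
  have hsum : 2 * (k + 1) ≤ n := by
    have h := Equiv.Perm.sum_cycleType (e d)
    rw [hk, Multiset.sum_replicate, smul_eq_mul] at h
    have := Finset.card_le_univ (e d).support
    rw [Fintype.card_fin] at this
    omega
  have hpar : ¬ Even (k + 1) := fun hev => hodd (by
    rw [Equiv.Perm.sign_of_cycleType, hk, Multiset.sum_replicate, Multiset.card_replicate, smul_eq_mul]
    exact Even.neg_one_pow ((hev.mul_right 2).add hev))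
  rw [Nat.even_add_one, not_not] at hpar
  have hswap : (e d).IsSwap := by
    rcases Nat.eq_zero_or_pos k with rfl | hk0
    · rw [← Equiv.Perm.card_support_eq_two, ← Equiv.Perm.sum_cycleType, hk]; rfl
    · exfalso
      obtain ⟨j, rfl⟩ := hpar
      rcases hn with rfl | rfl
      · omega
      obtain rfl : j = 1 := by omega
      set a : Equiv.Perm (Fin 8) := Equiv.swap 0 1 * Equiv.swap 2 3 * Equiv.swap 4 5 with ha
      set b : Equiv.Perm (Fin 8) := Equiv.swap 1 2 * Equiv.swap 3 4 * Equiv.swap 5 6 with hb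
      have hac : IsConj (e d) a := by
        rw [Equiv.Perm.isConj_iff_cycleType_eq, hk, ha]
        decide +kernel
      have hbc : IsConj (e d) b := by
        rw [Equiv.Perm.isConj_iff_cycleType_eq, hk, hb]
        decide +kernel
      have hmem : ∀ c, IsConj (e d) c → ∃ x ∈ D, e x = c := fun c hc => by
        obtain ⟨u, rfl⟩ := isConj_iff.1 hc
        exact ⟨e.symm u * d * (e.symm u)⁻¹, class_conj hD _ d hd, by simp⟩
      obtain ⟨x, hx, hxa⟩ := hmem a hac
      obtain ⟨y, hy, hyb⟩ := hmem b hbc
      have h23 : (a * b) ^ 2 = 1 ∨ (a * b) ^ 3 = 1 := by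
        rw [← hxa, ← hyb, ← map_mul, ← map_pow, ← map_pow]
        exact (hD.1.2 x hx y hy).imp (fun h => by rw [h, map_one]) (fun h => by rw [h, map_one])
      rw [ha, hb] at h23
      revert h23
      decide +kernel
  ext z
  constructor
  · rintro ⟨x, hx, rfl⟩
    obtain ⟨u, rfl⟩ := class_isConj hD hd hx
    rw [Set.mem_ofPred_eq, ← Equiv.Perm.card_support_eq_two, map_mul, map_mul, map_inv,
      Equiv.Perm.card_support_conj, Equiv.Perm.card_support_eq_two]
    exact hswap
  · intro hz
    obtain ⟨p, q, hpq, rfl⟩ := hz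
    obtain ⟨r, s, hrs, hd'⟩ := hswap
    obtain ⟨u, hu⟩ := isConj_iff.1 (Equiv.Perm.isConj_swap hrs hpq)
    refine ⟨e.symm u * d * (e.symm u)⁻¹, class_conj hD _ d hd, ?_⟩
    rw [map_mul, map_mul, map_inv, e.apply_symm_apply, hd', hu]

end Cfsg.Agent.FischerThm
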