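import Cfsg.Agent.FischerThm.Defs
import Cfsg.Agent.FischerThm.Bottom.ClassImage
import Cfsg.Agent.LocalLines.Local
import Cfsg.Agent.LocalTwins.Main
import Cfsg.Agent.ThreeTrans.SpPSU.Symp
import Cfsg.Agent.ThreeTrans.SpPSU.UnitaryIso
import Cfsg.Agent.Classical.SymmTwo
import Cfsg.Agent.S0440
import Cfsg.Agent.S1631

/-!
# Fischer's classification: a solvable local group, or a local core that is not central

The class goes to the transpositions of degree five, or to the transvections of a symplectic or
unitary group. Also the six-dimensional orthogonal group of plus type as a symmetric group.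
-/

set_option autoImplicit false

open Cfsg
open Cfsg.Agent.ThreeTrans

namespace Cfsg.Agent.FischerThm

variable {G : Type*} [Group G] [Finite G] {D : Set G}

/-- A local odd core that is not central gives the transpositions of degree five. -/
protected theorem oddCore (h : Hyp D) {d : G} (hd : d ∈ D)
    (hc : ¬ Cfsg.oddCore ↥(lowGroup D d) ≤ Subgroup.center ↥(lowGroup D d)) : SymAt D 5 := by
  obtain ⟨e⟩ := (LocalTwins.setup_of_oddCore h.sol h.perf h.cls hd hc).nonempty_five
  exact ⟨e, perm_class_eq (Or.inl rfl) h.cls e⟩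

/-- A local 2-core that is not central gives a symplectic or unitary class. -/
theorem twoCore (h : Hyp D) {d : G} (hd : d ∈ D)
    (hc : ¬ pCore 2 ↥(lowGroup D d) ≤ Subgroup.center ↥(lowGroup D d)) :
    (∃ m, 2 ≤ m ∧ SpAt D m) ∨ (∃ n, 4 ≤ n ∧ PSUAt D n) := by
  classical
  have S : SpPSU.Hyp D := SpPSU.hyp_of_core h.sol h.perf h.cls hd hc
  obtain ⟨x₀, a₀, -, hx₀, ha₀, -⟩ := S.twins
  rcases S.three_or_five hx₀ ha₀ with hm | hm
  · obtain ⟨m, hm2, e, x, hx, hr⟩ := SpPSU.exists_symplectic_class S fun u hu b hb => by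
      rw [S.line_card hu hb hx₀ ha₀, hm]
    refine Or.inl ⟨m, hm2, e, ?_⟩
    rw [class_image_eq h.cls (Cfsg.Agent.S0440.result m (by omega)) e (f := MonoidHom.id _)
      Function.surjective_id hx hr rfl, MonoidHom.coe_id, Set.image_id]
  · right
    obtain ⟨e₀, he₀, hxe⟩ := exists_not_commute h.cls ⟨x₀, hx₀, a₀, ha₀.1, Ne.symm ha₀.2.1⟩ hx₀
    have B : SpPSU.Base D x₀ e₀ := ⟨S, hx₀, he₀, hxe⟩
    obtain ⟨C⟩ := B.exists_coord_four fun b hb => by rw [S.line_card hx₀ hb hx₀ ha₀, hm]
    have : Fintype (SpPSU.Rep D x₀ e₀) := Fintype.ofFinite _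
    obtain ⟨n, hn, e, x, hx, g, hg, heg⟩ := C.exists_psu_class
    refine ⟨n, hn, SU32.F4, inferInstance, inferInstance, SU32.F4.card_eq, e, ?_⟩
    exact class_image_eq h.cls (Cfsg.Agent.S1631.result SU32.F4 SU32.F4.card_eq n hn) e
      (f := QuotientGroup.mk' _) (QuotientGroup.mk'_surjective _) hx hg heg

/-- A solvable local group. -/
theorem solvable (h : Hyp D) {d : G} (hd : d ∈ D) (hs : Group.IsSolvable ↥(lowGroup D d)) :
    Bottom D := by
  by_cases hodd : ∀ a ∈ D, Cfsg.oddCore ↥(lowGroup D a) ≤ Subgroup.center ↥(lowGroup D a)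
  · right
    have hz : Subgroup.center G = ⊥ := h.sol _ inferInstance
      (Group.isSolvable_of_comm fun a b => Subtype.ext (Subgroup.mem_center_iff.1 b.2 a))
    have hnon : ∃ a ∈ D, ∃ b ∈ D, ¬ Commute a b := by
      by_contra hcon
      push Not at hcon
      have hle : Subgroup.closure D ≤ Subgroup.center G := by
        rw [Subgroup.closure_le]
        exact fun a ha => Subgroup.mem_center_iff.2 fun g =>
          (commute_all h.cls.2.2 (fun e he => hcon a ha e he) g).eq.symm
      rw [h.cls.2.2, hz, top_le_iff] at hle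
      have : d ∈ (⊥ : Subgroup G) := by rw [hle]; trivial
      exact ne_one h.cls.1 hd (Subgroup.mem_bot.1 this)
    have hsolv : ∀ a ∈ D, Group.IsSolvable ↥(Subgroup.closure (dperp D a)) := by
      intro a ha
      obtain ⟨g, hg⟩ := class_isConj h.cls hd ha
      have hmap : (Subgroup.closure (dperp D d)).map (MulAut.conj g).toMonoidHom =
          Subgroup.closure (dperp D a) := by
        rw [MonoidHom.map_closure]
        congr 1
        refine Set.ext fun c => ⟨?_, fun hc => ⟨g⁻¹ * c * g, ?_, by simp [mul_assoc]⟩⟩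
        · rintro ⟨c, hc, rfl⟩
          have := dperp_conj (class_conj h.cls) g hc
          rwa [hg] at this
        · have := dperp_conj (class_conj h.cls) g⁻¹ hc
          rw [← hg] at this
          simpa [mul_assoc] using this
      rw [← hmap]
      exact Group.isSolvable_of_surjective
        (f := ((Subgroup.closure (dperp D d)).equivMapOfInjective (MulAut.conj g).toMonoidHom
          (MulAut.conj g).injective).toMonoidHom) (MulEquiv.surjective _)
    have P : LocalLines.Pre D :=
      ⟨fun N hN _ h' => h.sol N hN h', h.perf, h.cls, hnon, hsolv, hodd⟩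
    exact twoCore h hd (P.two_not_central hd)
  · left
    push Not at hodd
    obtain ⟨a, ha, hc⟩ := hodd
    exact FischerThm.oddCore h ha hc

/-- The six-dimensional orthogonal group of plus type is symmetric of degree eight. -/
theorem oplusThreeSym (h : Hyp D) (ho : OPlusAt D 3) : SymAt D 8 := by
  obtain ⟨e, -⟩ := ho
  obtain ⟨ψ⟩ := Classical.Symm2.equiv_eight (F := ZMod 2) (ZMod.card 2)
  exact ⟨e.trans ψ, perm_class_eq (Or.inr rfl) h.cls (e.trans ψ)⟩

end Cfsg.Agent.FischerThm
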